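import Mathlib
import Cfsg.Agent.Helper11.SzMultA

set_option autoImplicit false
set_option linter.unusedSectionVars false
set_option linter.unusedVariables false

/-!
Commutator pairings of lifts of one-parameter families in a central extension.
-/

namespace Cfsg.Agent.Helper6.ReeMult

open scoped commutatorElement
open Cfsg.Agent.Helper11.SzMult

/-- a biadditive map on a field of characteristic `3`, even in the first variable, vanishes -/
theorem parity_vanish {F : Type*} [Field F] [CharP F 3] {Γ : Type*} [Group Γ] (c : F → F → Γ)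
    (hl : ∀ x x' y, c (x + x') y = c x y * c x' y)
    (hneg : ∀ x y, c (-x) y = c x y) (x y : F) : c x y = 1 := by
  have h3 : (3 : F) = 0 := by
    have := CharP.cast_eq_zero F 3
    exact_mod_cast this
  have e : -x = x + x := by linear_combination (-x) * h3
  have h1 := hneg x y
  rw [e, hl] at h1
  exact mul_eq_left.mp h1

/-- a biadditive map on a field of characteristic `3`, even in the second variable, vanishes -/
theorem parity_vanish' {F : Type*} [Field F] [CharP F 3] {Γ : Type*} [Group Γ] (c : F → F → Γ)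
    (hr : ∀ x y y', c x (y + y') = c x y * c x y')
    (hneg : ∀ x y, c x (-y) = c x y) (x y : F) : c x y = 1 :=
  parity_vanish (fun a b => c b a) (fun a a' b => hr b a a') (fun a b => hneg b a) y x

section pairing

variable {G : Type*} [Group G] {Γ : Type*} [Group Γ] (σ : Γ →* G)
  (hZ : σ.ker ≤ Subgroup.center Γ)

include hZ

/-- left additivity of a commutator with central values -/
theorem bil_left {x x₁ x₂ y : Γ} (h : σ x = σ x₂ * σ x₁) (hc : ⁅x₁, y⁆ ∈ Subgroup.center Γ) :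
    ⁅x, y⁆ = ⁅x₁, y⁆ * ⁅x₂, y⁆ := by
  have e : ⁅x, y⁆ = ⁅x₂ * x₁, y⁆ := comm_congr σ hZ (by rw [h, map_mul]) rfl
  rw [e, comm_mul_left _ _ _ (Subgroup.mem_center_iff.1 hc x₂)]

/-- right additivity of a commutator with central values -/
theorem bil_right {x y y₁ y₂ : Γ} (h : σ y = σ y₁ * σ y₂) (hc : ⁅x, y₂⁆ ∈ Subgroup.center Γ) :
    ⁅x, y⁆ = ⁅x, y₁⁆ * ⁅x, y₂⁆ := by
  have e : ⁅x, y⁆ = ⁅x, y₁ * y₂⁆ := comm_congr σ hZ rfl (by rw [h, map_mul])
  rw [e, comm_mul_right _ _ _ (Subgroup.mem_center_iff.1 hc y₁)]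

/-- left additivity up to a factor commuting with `y` -/
theorem bil_left' {x x₁ x₂ r y : Γ} (h : σ x = σ x₂ * σ x₁ * σ r) (hr : Commute r y)
    (hc : ⁅x₁, y⁆ ∈ Subgroup.center Γ) : ⁅x, y⁆ = ⁅x₁, y⁆ * ⁅x₂, y⁆ := by
  have e : ⁅x, y⁆ = ⁅x₂ * x₁ * r, y⁆ := comm_congr σ hZ (by rw [h, map_mul, map_mul]) rfl
  rw [e, comm_mul_left_of_commute _ _ _ hr,
    comm_mul_left _ _ _ (Subgroup.mem_center_iff.1 hc x₂)]

/-- right additivity up to a factor commuting with `x` -/
theorem bil_right' {x y y₁ y₂ r : Γ} (h : σ y = σ y₁ * σ y₂ * σ r) (hr : Commute x r)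
    (hc : ⁅x, y₂⁆ ∈ Subgroup.center Γ) : ⁅x, y⁆ = ⁅x, y₁⁆ * ⁅x, y₂⁆ := by
  have e : ⁅x, y⁆ = ⁅x, y₁ * y₂ * r⁆ := comm_congr σ hZ rfl (by rw [h, map_mul, map_mul])
  rw [e, comm_mul_right_of_commute _ _ _ hr,
    comm_mul_right _ _ _ (Subgroup.mem_center_iff.1 hc y₁)]

/-- invariance of a central commutator under conjugation -/
theorem conj_inv {x y x' y' d : Γ} (hc : ⁅x, y⁆ ∈ Subgroup.center Γ)
    (hx : σ x' = σ d * σ x * (σ d)⁻¹) (hy : σ y' = σ d * σ y * (σ d)⁻¹) : ⁅x', y'⁆ = ⁅x, y⁆ := by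
  have e : ⁅x', y'⁆ = ⁅d * x * d⁻¹, d * y * d⁻¹⁆ :=
    comm_congr σ hZ (by rw [hx, map_mul, map_mul, map_inv]) (by rw [hy, map_mul, map_mul, map_inv])
  rw [e, ← conjugate_commutatorElement, Subgroup.mem_center_iff.1 hc d, mul_inv_cancel_right]

/-- a commutator depends only on the images -/
theorem comm_eq_one_of {x y x' y' : Γ} (hx : σ x = σ x') (hy : σ y = σ y')
    (h : ⁅x', y'⁆ = 1) : x * y = y * x := by
  have := comm_congr σ hZ hx hy
  rw [h, commutatorElement_eq_one_iff_commute] at this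
  exact this.eq

end pairing

end Cfsg.Agent.Helper6.ReeMult
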