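import Mathlib
import Cfsg.Agent.Helper6.ReeLoc.BorelFacts

set_option autoImplicit false
set_option linter.unusedSectionVars false
set_option linter.unusedVariables false

/-!
Commutators in the Sylow `3`-subgroup `U¹ = {xU t u v}` of `²G₂(q)`.
-/

namespace Cfsg.Agent.Helper6.ReeMult

open scoped commutatorElement
open Cfsg.Lie Cfsg.Agent.Helper6 Cfsg.Agent.Helper6.Ree Cfsg.Agent.Helper6.ReeAut

variable {K : Type*} [Field K] {m : ℕ} (C : ReeCtx K m)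
include C

omit C in
/-- a commutator equal to a central element -/
theorem comm_eq_of_central {G : Type*} [Group G] {a b z : G} (h : a * b = b * a * z)
    (hza : z * a = a * z) (hzb : z * b = b * z) : ⁅a, b⁆ = z := by
  rw [commutatorElement_def, h]
  calc b * a * z * a⁻¹ * b⁻¹ = b * (a * z) * a⁻¹ * b⁻¹ := by group
    _ = b * (z * a) * a⁻¹ * b⁻¹ := by rw [hza]
    _ = (b * z) * b⁻¹ := by group
    _ = z * b * b⁻¹ := by rw [← hzb]
    _ = z := by group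

/-- multiplication in `U₁ = {xU 0 u v}` -/
theorem xU01_mul (u v u' v' : K) : ReeAut.xU m 0 u v * ReeAut.xU m 0 u' v' = ReeAut.xU m 0 (u + u') (v + v') := by
  rw [ReeAut.xU_mul C]
  congr 1 <;> simp [zero_pow (three_theta_ne_zero m)]

/-- `xU T 0 0 * xU 0 u v = xU T u v` -/
theorem xU_X_mul01 (T u v : K) : ReeAut.xU m T 0 0 * ReeAut.xU m 0 u v = ReeAut.xU m T u v := by
  rw [ReeAut.xU_mul C]
  congr 1 <;> simp [zero_pow (three_theta_ne_zero m)]

/-- `xU 0 u v = xU 0 u 0 * xU 0 0 v` -/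
theorem xU01_split (u v : K) : ReeAut.xU m 0 u v = ReeAut.xU m 0 u 0 * ReeAut.xU m 0 0 v := by
  rw [xU01_mul C]; simp

/-- `xU t u v = xU t 0 0 * (xU 0 u 0 * xU 0 0 v)` -/
theorem xU_split' (t u v : K) : ReeAut.xU m t u v = ReeAut.xU m t 0 0 * (ReeAut.xU m 0 u 0 * ReeAut.xU m 0 0 v) := by
  rw [← xU01_split C, xU_X_mul01 C]

/-- the product of two elements `xU t 0 0` -/
theorem xU_XX (t t' : K) : ReeAut.xU m t 0 0 * ReeAut.xU m t' 0 0 =
    ReeAut.xU m (t + t') 0 0 * ReeAut.xU m 0 (-(t * t' ^ (3 * 3 ^ m)))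
      (t * t' ^ (3 * 3 ^ m + 1) - t ^ 2 * t' ^ (3 * 3 ^ m)) := by
  rw [xU_X_mul01 C, ReeAut.xU_mul C]
  congr 1 <;> ring

/-- `U₂ = {xU 0 0 c}` is central in `U¹` -/
theorem xU_Z_comm (t u v c : K) : ReeAut.xU m 0 0 c * ReeAut.xU m t u v = ReeAut.xU m t u v * ReeAut.xU m 0 0 c := by
  rw [ReeAut.xU_mul C, ReeAut.xU_mul C]
  congr 1 <;> simp [zero_pow (three_theta_ne_zero m)] <;> ring

/-- `U₁` is abelian -/
theorem xU01_comm (u v u' v' : K) : ReeAut.xU m 0 u v * ReeAut.xU m 0 u' v' = ReeAut.xU m 0 u' v' * ReeAut.xU m 0 u v := by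
  rw [xU01_mul C, xU01_mul C, add_comm u, add_comm v]

/-- commutator of an element of `U¹` with an element of `U₁` -/
theorem xU_comm01 (t u v u' v' : K) :
    ReeAut.xU m t u v * ReeAut.xU m 0 u' v' = ReeAut.xU m 0 u' v' * ReeAut.xU m t u v * ReeAut.xU m 0 0 (t * u') := by
  rw [ReeAut.xU_mul C, ReeAut.xU_mul C, ReeAut.xU_mul C]
  congr 1 <;> simp [zero_pow (three_theta_ne_zero m)] <;> ring

/-- the commutator of an element of `U¹` with an element of `U₁` lies in `U₂` -/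
theorem commutator_xU01 (t u v u' v' : K) :
    ⁅ReeAut.xU m t u v, ReeAut.xU m 0 u' v'⁆ = ReeAut.xU m 0 0 (t * u') := by
  exact comm_eq_of_central (xU_comm01 C t u v u' v') (xU_Z_comm C t u v (t * u'))
    (xU_Z_comm C 0 u' v' (t * u'))

/-- two elements of `U¹` commute modulo `U₁` -/
theorem xU_comm_mod (t u v t' u' v' : K) : ∃ δ ε : K,
    ReeAut.xU m t u v * ReeAut.xU m t' u' v' = ReeAut.xU m t' u' v' * ReeAut.xU m t u v * ReeAut.xU m 0 δ ε := by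
  refine ⟨t' * t ^ (3 * 3 ^ m) - t * t' ^ (3 * 3 ^ m),
    (v + v' - t' * u + t * t' ^ (3 * 3 ^ m + 1) - t ^ 2 * t' ^ (3 * 3 ^ m)) -
    (v' + v - t * u' + t' * t ^ (3 * 3 ^ m + 1) - t' ^ 2 * t ^ (3 * 3 ^ m)), ?_⟩
  rw [ReeAut.xU_mul C, ReeAut.xU_mul C, ReeAut.xU_mul C]
  congr 1 <;> simp [zero_pow (three_theta_ne_zero m)] <;> ring

/-- conjugation of an element of `U₁` by an element of `U¹` -/
theorem xU_conj01 (T p q δ ε : K) :
    ReeAut.xU m T p q * ReeAut.xU m 0 δ ε * (ReeAut.xU m T p q)⁻¹ = ReeAut.xU m 0 δ (ε + T * δ) := by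
  rw [mul_inv_eq_iff_eq_mul, ReeAut.xU_mul C, ReeAut.xU_mul C]
  congr 1 <;> simp [zero_pow (three_theta_ne_zero m)] <;> ring

/-- the commutator of two elements of `U¹` lies in `U₁` -/
theorem commutator_xU (t u v t' u' v' : K) : ∃ δ ε : K,
    ⁅ReeAut.xU m t u v, ReeAut.xU m t' u' v'⁆ = ReeAut.xU m 0 δ ε := by
  obtain ⟨δ, ε, h⟩ := xU_comm_mod C t u v t' u' v'
  have h2 : ReeAut.xU m t' u' v' * ReeAut.xU m t u v = ReeAut.xU m (t' + t) (u' + u - t' * t ^ (3 * 3 ^ m))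
      (v' + v - t * u' + t' * t ^ (3 * 3 ^ m + 1) - t' ^ 2 * t ^ (3 * 3 ^ m)) := ReeAut.xU_mul C _ _ _ _ _ _
  refine ⟨δ, ε + (t' + t) * δ, ?_⟩
  rw [← xU_conj01 C (t' + t) (u' + u - t' * t ^ (3 * 3 ^ m))
    (v' + v - t * u' + t' * t ^ (3 * 3 ^ m + 1) - t' ^ 2 * t ^ (3 * 3 ^ m)) δ ε, ← h2,
    commutatorElement_def, h]
  group

/-- inverses in `U₁` -/
theorem xU01_inv (p q : K) : (ReeAut.xU m 0 p q)⁻¹ = ReeAut.xU m 0 (-p) (-q) := by
  rw [inv_eq_iff_mul_eq_one, xU01_mul C, add_neg_cancel, add_neg_cancel]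
  exact ReeAut.xU_zero

end Cfsg.Agent.Helper6.ReeMult
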