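import Mathlib
import Cfsg.Agent.Helper6.ReeMult.UComm
import Cfsg.Agent.Helper6.ReeMult.Pairing
import Cfsg.Agent.Helper11.SL2MultB

set_option autoImplicit false
set_option linter.unusedSectionVars false
set_option linter.unusedVariables false
set_option maxHeartbeats 400000

/-!
The `3`-part of the Schur multiplier of `²G₂(q)`: the preimage of `U₁` is abelian and the preimage
of `U₂` is central in the preimage of `U¹`.
-/

namespace Cfsg.Agent.Helper6.ReeMult

open scoped commutatorElement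
open Cfsg.Lie Cfsg.Agent.Helper6 Cfsg.Agent.Helper6.Ree Cfsg.Agent.Helper6.ReeAut
open Cfsg.Agent.Helper11.SzMult

variable {K : Type*} [Field K] [Fintype K] {m : ℕ} (C : ReeCtx K m)
  (hK : Fintype.card K = 3 ^ (2 * m + 1)) (hm : 1 ≤ m)

theorem card_ge (hK : Fintype.card K = 3 ^ (2 * m + 1)) (hm : 1 ≤ m) : 27 ≤ Fintype.card K := by
  rw [hK]
  calc 27 = 3 ^ 3 := by norm_num
    _ ≤ 3 ^ (2 * m + 1) := Nat.pow_le_pow_right (by norm_num) (by omega)

/-- `2(3θ+2) + 2 < q` -/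
theorem deg_lt (hK : Fintype.card K = 3 ^ (2 * m + 1)) (hm : 1 ≤ m) :
    2 * (3 * 3 ^ m + 2) + 2 < Fintype.card K := by
  rw [hK]
  have h1 : 3 ^ (2 * m + 1) = 3 * 3 ^ m * 3 ^ m := by
    rw [show 2 * m + 1 = (m + m) + 1 by ring, pow_succ, pow_add]; ring
  have h2 : 3 ≤ 3 ^ m := by
    calc 3 = 3 ^ 1 := by norm_num
      _ ≤ 3 ^ m := Nat.pow_le_pow_right (by norm_num) hm
  rw [h1]
  nlinarith

include C in
/-- an element `u ∉ {0, -1, 1}` -/
theorem exists_good_id3 (hK : Fintype.card K = 3 ^ (2 * m + 1)) (hm : 1 ≤ m) :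
    ∃ u : K, u ≠ 0 ∧ 1 + u ≠ 0 ∧ (id (1 + u))⁻¹ ≠ 1 + (id u)⁻¹ := by
  have := C.char3
  have h3 : (3 : K) = 0 := by
    have := CharP.cast_eq_zero K 3
    exact_mod_cast this
  have hq := card_ge hK hm
  obtain ⟨u, hu0, hu1, hu⟩ := exists_nonroot (Polynomial.X - Polynomial.C 1 : Polynomial K)
    (Polynomial.X_sub_C_ne_zero 1) (by rw [Polynomial.natDegree_X_sub_C]; omega)
  refine ⟨u, hu0, hu1, ?_⟩
  simp only [id]
  intro h
  apply hu
  have h' : u = (1 + u) * (u + 1) := by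
    calc u = (1 + u)⁻¹ * ((1 + u) * u) := by field_simp
      _ = (1 + u⁻¹) * ((1 + u) * u) := by rw [h]
      _ = (1 + u) * (u + 1) := by field_simp
  have h2 : (u - 1) ^ 2 = 0 := by linear_combination (-1 : K) * h' - u * h3
  have h4 : u - 1 = 0 := pow_eq_zero_iff (n := 2) (by norm_num) |>.1 h2
  simp [h4]

include C in
/-- a non-root of `(1+u)^e (u^e + 1) - u^e`, `e = 3θ + 2` -/
theorem exists_good_pow (hK : Fintype.card K = 3 ^ (2 * m + 1)) (hm : 1 ≤ m) :
    ∃ u : K, u ≠ 0 ∧ 1 + u ≠ 0 ∧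
      ((1 + u) ^ (3 * 3 ^ m + 2))⁻¹ ≠ 1 + (u ^ (3 * 3 ^ m + 2))⁻¹ := by
  have := C.char3
  set e := 3 * 3 ^ m + 2 with he
  have hodd : Odd e := by
    rw [he]
    have : Odd (3 ^ m) := Odd.pow (by decide)
    obtain ⟨k, hk⟩ := this
    exact ⟨3 * k + 2, by rw [hk]; ring⟩
  set P : Polynomial K := (1 + Polynomial.X) ^ e * (Polynomial.X ^ e + 1) - Polynomial.X ^ e
    with hP
  have hP0 : P ≠ 0 := by
    intro h
    have h1 := congrArg (Polynomial.eval (-1 : K)) h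
    simp only [hP, Polynomial.eval_sub, Polynomial.eval_mul, Polynomial.eval_pow,
      Polynomial.eval_add, Polynomial.eval_one, Polynomial.eval_X, Polynomial.eval_zero] at h1
    rw [add_neg_cancel, zero_pow (by omega), zero_mul, zero_sub, hodd.neg_one_pow, neg_neg] at h1
    exact one_ne_zero h1
  have hdeg : P.natDegree ≤ 2 * e := by
    rw [hP]
    compute_degree
    all_goals omega
  obtain ⟨u, hu0, hu1, hu⟩ := exists_nonroot P hP0 (by have := deg_lt hK hm; omega)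
  refine ⟨u, hu0, hu1, ?_⟩
  intro h
  apply hu
  simp only [hP, Polynomial.eval_sub, Polynomial.eval_mul, Polynomial.eval_pow,
    Polynomial.eval_add, Polynomial.eval_one, Polynomial.eval_X]
  have ha : u ^ e ≠ 0 := pow_ne_zero _ hu0
  have hb : (1 + u) ^ e ≠ 0 := pow_ne_zero _ hu1
  have h' : u ^ e = (1 + u) ^ e * (u ^ e + 1) := by
    calc u ^ e = ((1 + u) ^ e)⁻¹ * ((1 + u) ^ e * u ^ e) := by field_simp
      _ = (1 + (u ^ e)⁻¹) * ((1 + u) ^ e * u ^ e) := by rw [h]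
      _ = (1 + u) ^ e * (u ^ e + 1) := by field_simp
  linear_combination -h'

variable {Γ : Type*} [Group Γ] (σ : Γ →* ↥(twistedG2 K (3 ^ m))) (hZ : σ.ker ≤ Subgroup.center Γ)
variable (s : ↥(twistedG2 K (3 ^ m)) → Γ) (hs : ∀ g, σ (s g) = g)

include C hK hm hZ hs

/-- preimages of elements of `U₂` commute -/
theorem commute_ZZ {x y : Γ} {v v' : K} (hx : σ x = ReeAut.xU m 0 0 v)
    (hy : σ y = ReeAut.xU m 0 0 v') : x * y = y * x := by
  set c : K → K → Γ := fun a b => ⁅s (ReeAut.xU m 0 0 a), s (ReeAut.xU m 0 0 b)⁆ with hc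
  have hcen : ∀ a b, c a b ∈ Subgroup.center Γ := by
    intro a b
    apply commute_of_map_commute σ hZ
    rw [hs, hs, xU01_comm C]
  have hl : ∀ a a' b, c (a + a') b = c a b * c a' b := by
    intro a a' b
    apply bil_left σ hZ _ (hcen a b)
    rw [hs, hs, hs, xU_Z_add C, add_comm]
  have hr : ∀ a b b', c a (b + b') = c a b * c a b' := by
    intro a b b'
    apply bil_right σ hZ _ (hcen a b')
    rw [hs, hs, hs, xU_Z_add C]
  have hinv : ∀ α a b, α ≠ 0 → c (α * a) (id α * b) = c a b := by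
    intro α a b hα
    apply conj_inv σ hZ (d := s (hT C hK (Units.mk0 α hα))) (hcen a b)
    · rw [hs, hs, hs, hT_conj_xU]; simp
    · rw [hs, hs, hs, hT_conj_xU]; simp
  obtain ⟨u, hu0, hu1, hne⟩ := exists_good_id3 C hK hm
  have key := bilin_vanish c id hl hr hinv u hu0 hu1 hu0 hu1 hne v v'
  exact comm_eq_one_of σ hZ (by rw [hx, hs]) (by rw [hy, hs]) key

/-- preimages of elements of `U₂` and of the middle root group commute -/
theorem commute_ZY {x y : Γ} {v u : K} (hx : σ x = ReeAut.xU m 0 0 v)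
    (hy : σ y = ReeAut.xU m 0 u 0) : x * y = y * x := by
  have := C.char3
  set c : K → K → Γ := fun a b => ⁅s (ReeAut.xU m 0 0 a), s (ReeAut.xU m 0 b 0)⁆ with hc
  have hcen : ∀ a b, c a b ∈ Subgroup.center Γ := by
    intro a b
    apply commute_of_map_commute σ hZ
    rw [hs, hs, xU01_comm C]
  have hl : ∀ a a' b, c (a + a') b = c a b * c a' b := by
    intro a a' b
    apply bil_left σ hZ _ (hcen a b)
    rw [hs, hs, hs, xU_Z_add C, add_comm]
  have hneg : ∀ a b, c (-a) b = c a b := by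
    intro a b
    apply conj_inv σ hZ (d := s (hT C hK (-1))) (hcen a b)
    · rw [hs, hs, hs, hT_conj_xU]; simp
    · simp only [hs]; rw [hT_conj_xU, c10_neg_one]; simp
  have key := parity_vanish c hl hneg v u
  exact comm_eq_one_of σ hZ (by rw [hx, hs]) (by rw [hy, hs]) key

/-- preimages of elements of the middle root group commute -/
theorem commute_YY {x y : Γ} {u u' : K} (hx : σ x = ReeAut.xU m 0 u 0)
    (hy : σ y = ReeAut.xU m 0 u' 0) : x * y = y * x := by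
  have := C.char3
  have : Fact (Nat.Prime 3) := ⟨Nat.prime_three⟩
  set c : K → K → Γ := fun a b => ⁅s (ReeAut.xU m 0 a 0), s (ReeAut.xU m 0 b 0)⁆ with hc
  have hcen : ∀ a b, c a b ∈ Subgroup.center Γ := by
    intro a b
    apply commute_of_map_commute σ hZ
    rw [hs, hs, xU01_comm C]
  have hl : ∀ a a' b, c (a + a') b = c a b * c a' b := by
    intro a a' b
    apply bil_left σ hZ _ (hcen a b)
    rw [hs, hs, hs, xU_u_add C, add_comm]
  have hr : ∀ a b b', c a (b + b') = c a b * c a b' := by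
    intro a b b'
    apply bil_right σ hZ _ (hcen a b')
    rw [hs, hs, hs, xU_u_add C]
  have hsq : ∀ t : K, t ≠ 0 → ∀ a b, c (t ^ 2 * a) (t ^ 2 * b) = c a b := by
    intro t ht a b
    apply conj_inv σ hZ (d := s (hT C hK ((Units.mk0 t ht) ^ (3 * 3 ^ m + 1)))) (hcen a b)
    · rw [hs, hs, hs, hT_conj_xU, c10_pow hK]; simp
    · rw [hs, hs, hs, hT_conj_xU, c10_pow hK]; simp
  have hq := card_ge hK hm
  obtain ⟨a₁, a₂, a₃, h1, h2, h3, hsum, hne⟩ := exists_pyth (F := K) 3 (Or.inl (by omega))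
  have key := bilin_vanish2 c hl hr (a₁ ^ 2) (a₂ ^ 2) (pow_ne_zero _ h1) (pow_ne_zero _ h2)
    (by rw [hsum]; exact pow_ne_zero _ h3) (hsq a₁ h1) (hsq a₂ h2)
    (by rw [hsum]; exact hsq a₃ h3) hne u u'
  exact comm_eq_one_of σ hZ (by rw [hx, hs]) (by rw [hy, hs]) key

/-- the preimage of `U₁` is abelian -/
theorem commute_A1 {x y : Γ} {u v u' v' : K} (hx : σ x = ReeAut.xU m 0 u v)
    (hy : σ y = ReeAut.xU m 0 u' v') : x * y = y * x := by
  have h1 : Commute (s (ReeAut.xU m 0 u 0)) (s (ReeAut.xU m 0 u' 0)) :=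
    commute_YY C hK hm σ hZ s hs (hs _) (hs _)
  have h2 : Commute (s (ReeAut.xU m 0 u 0)) (s (ReeAut.xU m 0 0 v')) :=
    (commute_ZY C hK hm σ hZ s hs (hs _) (hs _) : _ = _).symm
  have h3 : Commute (s (ReeAut.xU m 0 0 v)) (s (ReeAut.xU m 0 u' 0)) :=
    commute_ZY C hK hm σ hZ s hs (hs _) (hs _)
  have h4 : Commute (s (ReeAut.xU m 0 0 v)) (s (ReeAut.xU m 0 0 v')) :=
    commute_ZZ C hK hm σ hZ s hs (hs _) (hs _)
  have h5 : Commute (s (ReeAut.xU m 0 u 0) * s (ReeAut.xU m 0 0 v))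
      (s (ReeAut.xU m 0 u' 0) * s (ReeAut.xU m 0 0 v')) :=
    (h1.mul_right h2).mul_left (h3.mul_right h4)
  apply comm_eq_one_of σ hZ (x' := s (ReeAut.xU m 0 u 0) * s (ReeAut.xU m 0 0 v))
    (y' := s (ReeAut.xU m 0 u' 0) * s (ReeAut.xU m 0 0 v'))
  · rw [hx, map_mul, hs, hs, ← xU01_split C]
  · rw [hy, map_mul, hs, hs, ← xU01_split C]
  · exact commutatorElement_eq_one_iff_commute.2 h5

/-- preimages of `xU t 0 0` and of elements of `U₂` commute -/
theorem commute_XZ {x y : Γ} {t v : K} (hx : σ x = ReeAut.xU m t 0 0)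
    (hy : σ y = ReeAut.xU m 0 0 v) : x * y = y * x := by
  set c : K → K → Γ := fun a b => ⁅s (ReeAut.xU m a 0 0), s (ReeAut.xU m 0 0 b)⁆ with hc
  have hcen : ∀ a b, c a b ∈ Subgroup.center Γ := by
    intro a b
    apply commute_of_map_commute σ hZ
    rw [hs, hs, xU_Z_comm C]
  have hl : ∀ a a' b, c (a + a') b = c a b * c a' b := by
    intro a a' b
    apply bil_left' σ hZ (r := s (ReeAut.xU m 0 (-(-(a' * a ^ (3 * 3 ^ m))))
      (-(a' * a ^ (3 * 3 ^ m + 1) - a' ^ 2 * a ^ (3 * 3 ^ m))))) _ _ (hcen a b)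
    · rw [hs, hs, hs, hs, xU_XX C, ← xU01_inv C, mul_inv_cancel_right, add_comm]
    · exact commute_A1 C hK hm σ hZ s hs (hs _) (hs _)
  have hr : ∀ a b b', c a (b + b') = c a b * c a b' := by
    intro a b b'
    apply bil_right σ hZ _ (hcen a b')
    rw [hs, hs, hs, xU_Z_add C]
  have hinv : ∀ α a b, α ≠ 0 → c (α * a) ((fun z => z ^ (3 * 3 ^ m + 2)) α * b) = c a b := by
    intro α a b hα
    apply conj_inv σ hZ (d := s (hT C hK ((Units.mk0 α hα) ^ (3 * 3 ^ m + 2)))) (hcen a b)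
    · rw [hs, hs, hs, hT_conj_xU, c6_pow hK]; simp
    · rw [hs, hs, hs, hT_conj_xU]; simp
  obtain ⟨u, hu0, hu1, hne⟩ := exists_good_pow C hK hm
  have key := bilin_vanish c (fun z => z ^ (3 * 3 ^ m + 2)) hl hr hinv u hu0 hu1
    (pow_ne_zero _ hu0) (pow_ne_zero _ hu1) hne t v
  exact comm_eq_one_of σ hZ (by rw [hx, hs]) (by rw [hy, hs]) key

/-- the preimage of `U₂` is central in the preimage of `U¹` -/
theorem commute_UZ {x y : Γ} {t u v c : K} (hx : σ x = ReeAut.xU m t u v)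
    (hy : σ y = ReeAut.xU m 0 0 c) : x * y = y * x := by
  have h1 : Commute (s (ReeAut.xU m t 0 0)) (s (ReeAut.xU m 0 0 c)) :=
    commute_XZ C hK hm σ hZ s hs (hs _) (hs _)
  have h2 : Commute (s (ReeAut.xU m 0 u 0)) (s (ReeAut.xU m 0 0 c)) :=
    commute_A1 C hK hm σ hZ s hs (hs _) (hs _)
  have h3 : Commute (s (ReeAut.xU m 0 0 v)) (s (ReeAut.xU m 0 0 c)) :=
    commute_A1 C hK hm σ hZ s hs (hs _) (hs _)
  have h5 : Commute (s (ReeAut.xU m t 0 0) * (s (ReeAut.xU m 0 u 0) * s (ReeAut.xU m 0 0 v)))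
      (s (ReeAut.xU m 0 0 c)) := h1.mul_left (h2.mul_left h3)
  apply comm_eq_one_of σ hZ
    (x' := s (ReeAut.xU m t 0 0) * (s (ReeAut.xU m 0 u 0) * s (ReeAut.xU m 0 0 v)))
    (y' := s (ReeAut.xU m 0 0 c))
  · rw [hx, map_mul, map_mul, hs, hs, hs, ← xU_split' C]
  · rw [hy, hs]
  · exact commutatorElement_eq_one_iff_commute.2 h5

end Cfsg.Agent.Helper6.ReeMult
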