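import Mathlib
import Cfsg.Agent.Helper6.ReeMult.ThreeA

set_option autoImplicit false
set_option linter.unusedSectionVars false
set_option linter.unusedVariables false
set_option maxHeartbeats 800000

/-!
The `3`-part of the Schur multiplier of `²G₂(q)`: the norm on the preimage of `U₁` kills the
commutators of the preimage of `U¹`.
-/

namespace Cfsg.Agent.Helper6.ReeMult

open scoped commutatorElement
open Cfsg.Lie Cfsg.Agent.Helper6 Cfsg.Agent.Helper6.Ree Cfsg.Agent.Helper6.ReeAut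
open Cfsg.Agent.Helper11.SzMult

variable {K : Type*} [Field K] [Fintype K] {m : ℕ} (C : ReeCtx K m)
  (hK : Fintype.card K = 3 ^ (2 * m + 1)) (hm : 1 ≤ m)

include C hK in
theorem hT_mul (w w' : Kˣ) : hT C hK (w * w') = hT C hK w * hT C hK w' :=
  Subtype.ext (map_mul (hwHom K m) w w')

/-- `3` does not divide `(q - 1)(q³ + 1)(q - 1)` -/
theorem three_not_dvd (m : ℕ) :
    ¬ 3 ∣ (3 ^ (2 * m + 1) - 1) * ((3 ^ (2 * m + 1)) ^ 3 + 1) * (3 ^ (2 * m + 1) - 1) := by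
  have h1 : 3 ^ (2 * m + 1) = 3 * 3 ^ (2 * m) := by rw [pow_succ]; ring
  have hpos : 0 < 3 ^ (2 * m) := by positivity
  set a := 3 ^ (2 * m) with ha
  rw [h1]
  intro h
  have h2 : ¬ 3 ∣ 3 * a - 1 := by omega
  have h3 : ¬ 3 ∣ (3 * a) ^ 3 + 1 := by
    intro h'
    have : 3 ∣ (3 * a) ^ 3 := Dvd.dvd.pow (Dvd.intro _ rfl) (by norm_num)
    omega
  rcases (Nat.Prime.dvd_mul Nat.prime_three).1 h with h | h
  · rcases (Nat.Prime.dvd_mul Nat.prime_three).1 h with h | h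
    · exact h2 h
    · exact h3 h
  · exact h2 h

variable {Γ : Type*} [Group Γ] (σ : Γ →* ↥(twistedG2 K (3 ^ m))) (hZ : σ.ker ≤ Subgroup.center Γ)
variable (s : ↥(twistedG2 K (3 ^ m)) → Γ) (hs : ∀ g, σ (s g) = g)

/-- left additivity of a commutator, up to a factor commuting with `y` -/
theorem bil_leftC {x x₁ x₂ r y : Γ} (hZ : σ.ker ≤ Subgroup.center Γ)
    (h : σ x = σ x₂ * σ x₁ * σ r) (hr : Commute r y)
    (hc : Commute x₂ ⁅x₁, y⁆) : ⁅x, y⁆ = ⁅x₁, y⁆ * ⁅x₂, y⁆ := by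
  have e : ⁅x, y⁆ = ⁅x₂ * x₁ * r, y⁆ := comm_congr σ hZ (by rw [h, map_mul, map_mul]) rfl
  rw [e, comm_mul_left_of_commute _ _ _ hr, comm_mul_left _ _ _ hc]

/-- right additivity of a commutator -/
theorem bil_rightC {x y y₁ y₂ : Γ} (hZ : σ.ker ≤ Subgroup.center Γ)
    (h : σ y = σ y₁ * σ y₂) (hc : Commute y₁ ⁅x, y₂⁆) : ⁅x, y⁆ = ⁅x, y₁⁆ * ⁅x, y₂⁆ := by
  have e : ⁅x, y⁆ = ⁅x, y₁ * y₂⁆ := comm_congr σ hZ rfl (by rw [h, map_mul])
  rw [e, comm_mul_right _ _ _ hc]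

include C hK hm hZ hs

/-- the `3`-part of the kernel of a stem extension of `²G₂(q)` is trivial -/
theorem three_part [Finite Γ] (a : Γ) (ha : a ∈ σ.ker) (hac : a ∈ commutator Γ)
    (h3a : a ^ 3 = 1) : a = 1 := by
  classical
  have hch := C.char3
  have hσ : Function.Surjective σ := fun g => ⟨s g, hs g⟩
  -- the preimage of `U₁`
  let A1 : Subgroup Γ :=
    { carrier := {x | ∃ u v : K, σ x = ReeAut.xU m 0 u v}
      one_mem' := ⟨0, 0, by rw [map_one, ReeAut.xU_zero]⟩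
      mul_mem' := by
        rintro x y ⟨u, v, hx⟩ ⟨u', v', hy⟩
        exact ⟨u + u', v + v', by rw [map_mul, hx, hy, xU01_mul C]⟩
      inv_mem' := by
        rintro x ⟨u, v, hx⟩
        exact ⟨-u, -v, by rw [map_inv, hx, xU01_inv C]⟩ }
  have hA1 : ∀ x, x ∈ A1 ↔ ∃ u v : K, σ x = ReeAut.xU m 0 u v := fun x => Iff.rfl
  have hA1c : ∀ x ∈ A1, ∀ y ∈ A1, x * y = y * x := by
    rintro x ⟨u, v, hx⟩ y ⟨u', v', hy⟩
    exact commute_A1 C hK hm σ hZ s hs hx hy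
  set d : Kˣ → Γ := fun w => s (hT C hK w) with hd'
  have hd : ∀ w, ∀ z ∈ A1, d w * z * (d w)⁻¹ ∈ A1 := by
    rintro w z ⟨u, v, hz⟩
    exact ⟨c10 m w * u, (w : K) * v, by
      rw [map_mul, map_mul, map_inv, hs, hz, hT_conj_xU, mul_zero]⟩
  obtain ⟨N, hN1, hNmul, hNfix, hNconj⟩ := exists_norm A1 hA1c d hd
  have hNinv : ∀ z ∈ A1, N z⁻¹ = (N z)⁻¹ := by
    intro z hz
    have := hNmul _ hz _ (A1.inv_mem hz)
    rw [mul_inv_cancel, hN1] at this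
    exact eq_inv_of_mul_eq_one_right this.symm
  have hNcomm : ∀ z ∈ A1, ∀ w ∈ A1, N z * N w = N w * N z := by
    intro z hz w hw
    rw [← hNmul _ hz _ hw, ← hNmul _ hw _ hz, hA1c z hz w hw]
  -- `N` is invariant under the torus
  have hNd : ∀ k, ∀ z ∈ A1, N (d k * z * (d k)⁻¹) = N z := by
    intro k z hz
    apply hNconj (Equiv.mulRight k) (d k) (hd k) _ z hz
    intro i z hz
    rw [Equiv.coe_mulRight]
    have hg : σ (d (i * k)) = σ (d i * d k) := by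
      rw [map_mul, hs, hs, hs, hT_mul]
    rw [conj_congr σ hZ hg z]
    group
  -- central elements of the preimage of `U¹`
  have hUZ : ∀ {x y : Γ} {t u v c : K}, σ x = ReeAut.xU m t u v → σ y = ReeAut.xU m 0 0 c →
      Commute x y := fun hx hy => commute_UZ C hK hm σ hZ s hs hx hy
  -- the pairing of `X` and `Y`
  set κ₂ : K → K → Γ := fun t u => ⁅s (ReeAut.xU m t 0 0), s (ReeAut.xU m 0 u 0)⁆ with hκ₂
  have hκ₂σ : ∀ t u, σ (κ₂ t u) = ReeAut.xU m 0 0 (t * u) := by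
    intro t u
    change σ ⁅s (ReeAut.xU m t 0 0), s (ReeAut.xU m 0 u 0)⁆ = _
    rw [map_commutatorElement, hs, hs, commutator_xU01 C]
  have hκ₂A : ∀ t u, κ₂ t u ∈ A1 := fun t u => ⟨0, t * u, hκ₂σ t u⟩
  have hκ₂l : ∀ t t' u, κ₂ (t + t') u = κ₂ t u * κ₂ t' u := by
    intro t t' u
    apply bil_leftC σ hZ (r := s (ReeAut.xU m 0 (-(-(t' * t ^ (3 * 3 ^ m))))
      (-(t' * t ^ (3 * 3 ^ m + 1) - t' ^ 2 * t ^ (3 * 3 ^ m)))))
    · rw [hs, hs, hs, hs, xU_XX C, ← xU01_inv C, mul_inv_cancel_right, add_comm]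
    · exact commute_A1 C hK hm σ hZ s hs (hs _) (hs _)
    · exact hUZ (hs _) (hκ₂σ t u)
  have hκ₂r : ∀ t u u', κ₂ t (u + u') = κ₂ t u * κ₂ t u' := by
    intro t u u'
    apply bil_rightC σ hZ
    · rw [hs, hs, hs, xU_u_add C]
    · exact hUZ (hs _) (hκ₂σ t u')
  set c₂ : K → K → Γ := fun t u => N (κ₂ t u) with hc₂
  have hc₂l : ∀ t t' u, c₂ (t + t') u = c₂ t u * c₂ t' u := by
    intro t t' u
    simp only [hc₂]
    rw [hκ₂l, hNmul _ (hκ₂A _ _) _ (hκ₂A _ _)]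
  have hc₂neg : ∀ t u, c₂ (-t) u = c₂ t u := by
    intro t u
    have e : κ₂ (-t) u = d (-1) * κ₂ t u * (d (-1))⁻¹ := by
      rw [conjugate_commutatorElement]
      apply comm_congr σ hZ
      · rw [map_mul, map_mul, map_inv, hs, hs, hs, hT_conj_xU, c6_neg_one]; simp
      · simp only [map_mul, map_inv, hd', hs]; rw [hT_conj_xU, c10_neg_one]; simp
    simp only [hc₂]
    rw [e, hNd _ _ (hκ₂A t u)]
  have hc₂ : ∀ t u, N (κ₂ t u) = 1 := parity_vanish c₂ hc₂l hc₂neg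
  -- commutators with elements of the preimage of `U₁`
  have hUA : ∀ {x y : Γ} {t p q u v : K}, σ x = ReeAut.xU m t p q → σ y = ReeAut.xU m 0 u v →
      ⁅x, y⁆ = κ₂ t u := by
    intro x y t p q u v hx hy
    have e : ⁅x, y⁆ = ⁅s (ReeAut.xU m t 0 0) * s (ReeAut.xU m 0 p q),
        s (ReeAut.xU m 0 u 0) * s (ReeAut.xU m 0 0 v)⁆ := by
      apply comm_congr σ hZ
      · rw [hx, map_mul, hs, hs, xU_X_mul01 C]
      · rw [hy, map_mul, hs, hs, ← xU01_split C]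
    have hy' : σ (s (ReeAut.xU m 0 u 0) * s (ReeAut.xU m 0 0 v)) = ReeAut.xU m 0 u v := by
      rw [map_mul, hs, hs, ← xU01_split C]
    rw [e, comm_mul_left_of_commute _ _ _
      (commute_A1 C hK hm σ hZ s hs (hs _) hy' : _ = _),
      comm_mul_right_of_commute _ _ _ (hUZ (hs _) (hs _))]
  -- `N` is invariant under the preimage of `U¹`
  have hNU : ∀ {g w : Γ} {t p q : K}, σ g = ReeAut.xU m t p q → w ∈ A1 →
      g * w * g⁻¹ ∈ A1 ∧ N (g * w * g⁻¹) = N w := by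
    rintro g w t p q hg ⟨u, v, hw⟩
    have e : g * w * g⁻¹ = ⁅g, w⁆ * w := by rw [commutatorElement_def]; group
    have h1 : ⁅g, w⁆ = κ₂ t u := hUA hg hw
    rw [e, h1]
    exact ⟨A1.mul_mem (hκ₂A _ _) ⟨u, v, hw⟩, by
      rw [hNmul _ (hκ₂A _ _) _ ⟨u, v, hw⟩, hc₂, one_mul]⟩
  -- commutators in the preimage of `U¹` lie in `A1`
  have hcomA : ∀ {x y : Γ} {t p q t' p' q' : K}, σ x = ReeAut.xU m t p q →
      σ y = ReeAut.xU m t' p' q' → ⁅x, y⁆ ∈ A1 := by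
    intro x y t p q t' p' q' hx hy
    obtain ⟨δ, ε, h⟩ := commutator_xU C t p q t' p' q'
    exact ⟨δ, ε, by rw [map_commutatorElement, hx, hy, h]⟩
  -- the pairing `B`
  have hBl : ∀ {a b g : Γ} {t p q t' p' q' t'' p'' q'' : K}, σ a = ReeAut.xU m t p q →
      σ b = ReeAut.xU m t' p' q' → σ g = ReeAut.xU m t'' p'' q'' →
      N ⁅a * b, g⁆ = N ⁅a, g⁆ * N ⁅b, g⁆ := by
    intro a b g t p q t' p' q' t'' p'' q'' ha hb hg
    have e : ⁅a * b, g⁆ = a * ⁅b, g⁆ * a⁻¹ * ⁅a, g⁆ := by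
      simp only [commutatorElement_def]; group
    have h1 := hNU ha (hcomA hb hg)
    rw [e, hNmul _ h1.1 _ (hcomA ha hg), h1.2, hNcomm _ (hcomA hb hg) _ (hcomA ha hg)]
  have hBr : ∀ {g a b : Γ} {t p q t' p' q' t'' p'' q'' : K}, σ a = ReeAut.xU m t p q →
      σ b = ReeAut.xU m t' p' q' → σ g = ReeAut.xU m t'' p'' q'' →
      N ⁅g, a * b⁆ = N ⁅g, a⁆ * N ⁅g, b⁆ := by
    intro g a b t p q t' p' q' t'' p'' q'' ha hb hg
    have e : ⁅g, a * b⁆ = ⁅g, a⁆ * (a * ⁅g, b⁆ * a⁻¹) := by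
      simp only [commutatorElement_def]; group
    have h1 := hNU ha (hcomA hg hb)
    rw [e, hNmul _ (hcomA hg ha) _ h1.1, h1.2]
  -- `B` vanishes when one argument is in `A1`
  have hB0r : ∀ {x y : Γ} {t p q u v : K}, σ x = ReeAut.xU m t p q → σ y = ReeAut.xU m 0 u v →
      N ⁅x, y⁆ = 1 := by
    intro x y t p q u v hx hy
    rw [hUA hx hy, hc₂]
  have hB0l : ∀ {x y : Γ} {t p q u v : K}, σ x = ReeAut.xU m t p q → σ y = ReeAut.xU m 0 u v →
      N ⁅y, x⁆ = 1 := by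
    intro x y t p q u v hx hy
    rw [← commutatorElement_inv, hNinv _ (hcomA hx hy), hB0r hx hy, inv_one]
  -- the pairing of `X` and `X`
  set c₁ : K → K → Γ := fun t t' => N ⁅s (ReeAut.xU m t 0 0), s (ReeAut.xU m t' 0 0)⁆ with hc₁
  have hXX : ∀ t t' : K, ∃ p q : K, σ (s (ReeAut.xU m (t + t') 0 0)) =
      σ (s (ReeAut.xU m t 0 0) * s (ReeAut.xU m t' 0 0) * s (ReeAut.xU m 0 p q)) := by
    intro t t'
    refine ⟨-(-(t * t' ^ (3 * 3 ^ m))), -(t * t' ^ (3 * 3 ^ m + 1) - t ^ 2 * t' ^ (3 * 3 ^ m)), ?_⟩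
    rw [map_mul, map_mul, hs, hs, hs, hs, xU_XX C, ← xU01_inv C, mul_inv_cancel_right]
  have hc₁l : ∀ t t' b, c₁ (t + t') b = c₁ t b * c₁ t' b := by
    intro t t' b
    obtain ⟨p, q, h⟩ := hXX t t'
    simp only [hc₁]
    rw [comm_congr σ hZ h rfl]
    have h12 : σ (s (ReeAut.xU m t 0 0) * s (ReeAut.xU m t' 0 0)) =
        ReeAut.xU m (t + t') (0 + 0 - t * t' ^ (3 * 3 ^ m))
          (0 + 0 - t' * 0 + t * t' ^ (3 * 3 ^ m + 1) - t ^ 2 * t' ^ (3 * 3 ^ m)) := by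
      rw [map_mul, hs, hs, ReeAut.xU_mul C]
    rw [hBl h12 (hs _) (hs _), hBl (hs _) (hs _) (hs _), hB0l (hs _) (hs _), mul_one]
  have hc₁r : ∀ b t t', c₁ b (t + t') = c₁ b t * c₁ b t' := by
    intro b t t'
    obtain ⟨p, q, h⟩ := hXX t t'
    simp only [hc₁]
    rw [comm_congr σ hZ rfl h]
    have h12 : σ (s (ReeAut.xU m t 0 0) * s (ReeAut.xU m t' 0 0)) =
        ReeAut.xU m (t + t') (0 + 0 - t * t' ^ (3 * 3 ^ m))
          (0 + 0 - t' * 0 + t * t' ^ (3 * 3 ^ m + 1) - t ^ 2 * t' ^ (3 * 3 ^ m)) := by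
      rw [map_mul, hs, hs, ReeAut.xU_mul C]
    rw [hBr h12 (hs _) (hs _), hBr (hs _) (hs _) (hs _), hB0r (hs _) (hs _), mul_one]
  have hc₁inv : ∀ α t t', α ≠ 0 → c₁ (α * t) (id α * t') = c₁ t t' := by
    intro α t t' hα
    set k : Kˣ := (Units.mk0 α hα) ^ (3 * 3 ^ m + 2) with hk
    have e : ⁅s (ReeAut.xU m (α * t) 0 0), s (ReeAut.xU m (id α * t') 0 0)⁆ =
        d k * ⁅s (ReeAut.xU m t 0 0), s (ReeAut.xU m t' 0 0)⁆ * (d k)⁻¹ := by
      rw [conjugate_commutatorElement]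
      apply comm_congr σ hZ
      · rw [map_mul, map_mul, map_inv, hs, hs, hs, hT_conj_xU, hk, c6_pow hK]; simp
      · rw [map_mul, map_mul, map_inv, hs, hs, hs, hT_conj_xU, hk, c6_pow hK]; simp
    simp only [hc₁]
    rw [e, hNd _ _ (hcomA (hs _) (hs _))]
  obtain ⟨u₀, hu0, hu1, hne⟩ := exists_good_id3 C hK hm
  have hc₁0 : ∀ t t', c₁ t t' = 1 :=
    bilin_vanish c₁ id hc₁l hc₁r hc₁inv u₀ hu0 hu1 hu0 hu1 hne
  -- all commutators
  have hall : ∀ x y : Γ, σ x ∈ ReeCtx.U1 (K := K) (m := m) → σ y ∈ ReeCtx.U1 (K := K) (m := m) →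
      ⁅x, y⁆ ∈ A1 ∧ N ⁅x, y⁆ = 1 := by
    intro x y hx hy
    obtain ⟨t, p, q, hx⟩ := exists_xU C hx
    obtain ⟨t', p', q', hy⟩ := exists_xU C hy
    refine ⟨hcomA hx hy, ?_⟩
    have e : ⁅x, y⁆ = ⁅s (ReeAut.xU m t 0 0) * s (ReeAut.xU m 0 p q),
        s (ReeAut.xU m t' 0 0) * s (ReeAut.xU m 0 p' q')⁆ := by
      apply comm_congr σ hZ
      · rw [hx, map_mul, hs, hs, xU_X_mul01 C]
      · rw [hy, map_mul, hs, hs, xU_X_mul01 C]
    have hy' : σ (s (ReeAut.xU m t' 0 0) * s (ReeAut.xU m 0 p' q')) = ReeAut.xU m t' p' q' := by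
      rw [map_mul, hs, hs, xU_X_mul01 C]
    rw [e, hBl (hs _) (hs _) hy', hBr (hs _) (hs _) (hs _), hBr (hs _) (hs _) (hs _),
      hB0r (hs _) (hs _), hB0l (hs _) (hs _), hB0r (hs _) (hs _), mul_one, mul_one, mul_one]
    exact hc₁0 t t'
  set L : Subgroup Γ := (ReeCtx.U1 (K := K) (m := m)).comap σ with hL
  have hcl : ∀ w : ↥L, w ∈ commutator ↥L → (w : Γ) ∈ A1 ∧ N (w : Γ) = 1 := by
    intro w hw
    rw [commutator_eq_closure] at hw
    induction hw using Subgroup.closure_induction with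
    | mem w hw =>
      obtain ⟨x, y, rfl⟩ := hw
      exact hall x y x.2 y.2
    | one => exact ⟨A1.one_mem, hN1⟩
    | mul w₁ w₂ _ _ h₁ h₂ =>
      refine ⟨A1.mul_mem h₁.1 h₂.1, ?_⟩
      rw [Subgroup.coe_mul, hNmul _ h₁.1 _ h₂.1, h₁.2, h₂.2, one_mul]
    | inv w _ h =>
      refine ⟨A1.inv_mem h.1, ?_⟩
      rw [Subgroup.coe_inv, hNinv _ h.1, h.2, inv_one]
  have haL : a ∈ L := by
    rw [hL, Subgroup.mem_comap, MonoidHom.mem_ker.mp ha]
    exact Subgroup.one_mem _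
  have htr := pow_index_mem_commutator L a (hZ ha) hac haL
  have h3 := (hcl _ htr).2
  rw [Subgroup.coe_pow] at h3
  -- `N` on the central element `a ^ index`
  have hfin : Finite ↥(twistedG2 K (3 ^ m)) := Subtype.finite
  have hak : a ^ L.index ∈ σ.ker := Subgroup.pow_mem _ ha _
  have haA : a ^ L.index ∈ A1 := ⟨0, 0, by rw [MonoidHom.mem_ker.mp hak, ReeAut.xU_zero]⟩
  have h4 := hNfix _ haA (fun i => by
    have := Subgroup.mem_center_iff.mp (hZ hak) (d i)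
    rw [this, mul_inv_cancel_right])
  rw [h3, Fintype.card_units, hK, ← pow_mul] at h4
  -- the index
  have hidx : L.index = (3 ^ (2 * m + 1) - 1) * ((3 ^ (2 * m + 1)) ^ 3 + 1) := by
    rw [hL, Subgroup.index_comap_of_surjective _ hσ]
    have h5 := Subgroup.card_mul_index (ReeCtx.U1 (K := K) (m := m))
    rw [C.card_U1 hK, C.card_ree hK] at h5
    have hpos : 0 < (3 ^ (2 * m + 1)) ^ 3 := by positivity
    apply Nat.eq_of_mul_eq_mul_left hpos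
    rw [h5]; ring
  rw [hidx] at h4
  have hdvd : orderOf a ∣ (3 ^ (2 * m + 1) - 1) * ((3 ^ (2 * m + 1)) ^ 3 + 1) *
      (3 ^ (2 * m + 1) - 1) := orderOf_dvd_of_pow_eq_one h4.symm
  have hdvd3 : orderOf a ∣ 3 := orderOf_dvd_of_pow_eq_one h3a
  rcases (Nat.dvd_prime Nat.prime_three).1 hdvd3 with h | h
  · exact orderOf_eq_one_iff.1 h
  · rw [h] at hdvd
    exact absurd hdvd (three_not_dvd m)

end Cfsg.Agent.Helper6.ReeMult
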