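import Mathlib
import Cfsg.Agent.Helper6.ReeMult.ThreeB
import Cfsg.Agent.Helper6.ReeLoc.Q1a
import Cfsg.Agent.Helper6.ReeLoc.SylowCyclic
import Cfsg.Agent.Helper6.Ree.G2SylC
import Cfsg.Agent.Helper29.ReeM2
import Cfsg.Agent.Helper11.SL2MultA
import Cfsg.Agent.Helper20.DihedralStem

set_option autoImplicit false
set_option linter.unusedSectionVars false
set_option linter.unusedVariables false
set_option maxHeartbeats 800000

/-!
The Schur multiplier of `²G₂(q)`, `q = 3^(2m+1) ≥ 27`, is trivial.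
-/

namespace Cfsg.Agent.Helper6.ReeMult

open scoped commutatorElement
open Cfsg.Lie Cfsg.Agent.Helper6 Cfsg.Agent.Helper6.Ree Cfsg.Agent.Helper6.ReeAut
  Cfsg.Agent.Helper6.ReeLoc
open Cfsg.Agent.Helper11.SzMult

variable {K : Type*} [Field K] [Fintype K] {m : ℕ} (C : ReeCtx K m)
  (hK : Fintype.card K = 3 ^ (2 * m + 1)) (hm : 1 ≤ m) (Φ : InvHom K m)

variable {Γ : Type*} [Group Γ] (σ : Γ →* ↥(twistedG2 K (3 ^ m))) (hZ : σ.ker ≤ Subgroup.center Γ)
variable (s : ↥(twistedG2 K (3 ^ m)) → Γ) (hs : ∀ g, σ (s g) = g)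

include C hK hm Φ hZ hs in
/-- the `2`-part of the kernel of a stem extension of `²G₂(q)` is trivial -/
theorem two_part [Finite Γ] (a : Γ) (ha : a ∈ σ.ker) (hac : a ∈ commutator Γ)
    (h2a : a ^ 2 = 1) : a = 1 := by
  classical
  have hσ : Function.Surjective σ := fun g => ⟨s g, hs g⟩
  have hfin : Finite ↥(twistedG2 K (3 ^ m)) := Subtype.finite
  have : Fact (Nat.Prime 2) := ⟨Nat.prime_two⟩
  have : Fact (Nat.Prime 7) := ⟨by norm_num⟩
  obtain ⟨S⟩ : Nonempty (Sylow 2 ↥(twistedG2 K (3 ^ m))) := inferInstance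
  obtain ⟨hS8, hSexp⟩ := Φ.sylow_two C hK S
  obtain ⟨hSC, hSN⟩ := Φ.sylow_two_normalizer C hK hm S
  have hSab : ∀ x ∈ S, ∀ y ∈ S, x * y = y * x := by
    intro x hx y hy
    exact (commute_of_sq_eq_one (hSexp x hx) (hSexp y hy)
      (hSexp _ (Subgroup.mul_mem _ hx hy))).eq
  -- an element of order `7` in the normaliser
  obtain ⟨c, hc⟩ := exists_prime_orderOf_dvd_card' (G := ↥(Subgroup.normalizer
    ((S : Subgroup ↥(twistedG2 K (3 ^ m))) : Set ↥(twistedG2 K (3 ^ m))))) 7 (by rw [hSN]; norm_num)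
  have hc7 : (c : ↥(twistedG2 K (3 ^ m))) ^ 7 = 1 := by
    have := pow_orderOf_eq_one c
    rw [hc] at this
    exact_mod_cast congrArg Subtype.val this
  have hcS : ∀ x ∈ S, (c : ↥(twistedG2 K (3 ^ m))) * x * (c : ↥(twistedG2 K (3 ^ m)))⁻¹ ∈ S := by
    intro x hx
    exact (Subgroup.mem_normalizer_iff.1 c.2 x).1 hx
  have hmove : ∃ x ∈ S, (c : ↥(twistedG2 K (3 ^ m))) * x * (c : ↥(twistedG2 K (3 ^ m)))⁻¹ ≠ x := by
    by_contra hcon
    push Not at hcon
    have hcC : (c : ↥(twistedG2 K (3 ^ m))) ∈ Subgroup.centralizer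
        ((S : Subgroup ↥(twistedG2 K (3 ^ m))) : Set ↥(twistedG2 K (3 ^ m))) := by
      rw [Subgroup.mem_centralizer_iff]
      intro x hx
      have := hcon x hx
      rw [mul_inv_eq_iff_eq_mul] at this
      exact this.symm
    rw [hSC] at hcC
    have h1 : orderOf (⟨(c : ↥(twistedG2 K (3 ^ m))), hcC⟩ : ↥(S : Subgroup ↥(twistedG2 K (3 ^ m)))) ∣ 8 := by
      rw [← hS8]; exact orderOf_dvd_natCard _
    rw [← Subgroup.orderOf_coe, Subgroup.orderOf_coe c, hc] at h1
    omega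
  -- the commutator pairing on `S`
  set β : ↥(twistedG2 K (3 ^ m)) → ↥(twistedG2 K (3 ^ m)) → Γ :=
    fun x y => if x ∈ S ∧ y ∈ S then ⁅s x, s y⁆ else 1 with hβ
  have hβS : ∀ x ∈ S, ∀ y ∈ S, β x y = ⁅s x, s y⁆ := by
    intro x hx y hy
    simp only [hβ, hx, hy, and_self, if_true]
  have hcen : ∀ x ∈ S, ∀ y ∈ S, ⁅s x, s y⁆ ∈ Subgroup.center Γ := by
    intro x hx y hy
    apply commute_of_map_commute σ hZ
    rw [hs, hs, hSab x hx y hy]
  have hβcen : ∀ x y, β x y ∈ Subgroup.center Γ := by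
    intro x y
    by_cases h : x ∈ S ∧ y ∈ S
    · rw [hβS x h.1 y h.2]; exact hcen x h.1 y h.2
    · simp only [hβ, h, if_false]; exact Subgroup.one_mem _
  have key := Cfsg.Agent.Helper29.ReeM2.seven_vanish (S : Subgroup ↥(twistedG2 K (3 ^ m))) hS8 hSexp
    (c : ↥(twistedG2 K (3 ^ m))) hcS hc7 hmove β
    (fun x y x' y' => (Subgroup.mem_center_iff.1 (hβcen x' y') (β x y)))
    (by
      intro x hx x' hx' y hy
      rw [hβS _ (Subgroup.mul_mem _ hx hx') y hy, hβS x hx y hy, hβS x' hx' y hy]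
      apply bil_left σ hZ _ (hcen x hx y hy)
      rw [hs, hs, hs, hSab x hx x' hx'])
    (by
      intro x hx y hy y' hy'
      rw [hβS x hx _ (Subgroup.mul_mem _ hy hy'), hβS x hx y hy, hβS x hx y' hy']
      apply bil_right σ hZ _ (hcen x hx y' hy')
      rw [hs, hs, hs])
    (by
      intro x hx
      rw [hβS x hx x hx, commutatorElement_self])
    (by
      intro x hx y hy
      rw [hβS _ (hcS x hx) _ (hcS y hy), hβS x hx y hy]
      apply conj_inv σ hZ (d := s (c : ↥(twistedG2 K (3 ^ m)))) (hcen x hx y hy)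
      · simp only [hs]
      · simp only [hs])
  -- the preimage of `S` is abelian
  set L : Subgroup Γ := (S : Subgroup ↥(twistedG2 K (3 ^ m))).comap σ with hL
  have hbot : commutator ↥L ≤ ⊥ := by
    rw [commutator_eq_closure, Subgroup.closure_le]
    rintro _ ⟨x, y, rfl⟩
    rw [SetLike.mem_coe, Subgroup.mem_bot]
    apply Subtype.ext
    have hco : ((⁅x, y⁆ : ↥L) : Γ) = ⁅(x : Γ), (y : Γ)⁆ := by
      simp only [commutatorElement_def, Subgroup.coe_mul, Subgroup.coe_inv]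
    rw [hco, Subgroup.coe_one]
    have hx : σ (x : Γ) ∈ S := x.2
    have hy : σ (y : Γ) ∈ S := y.2
    have h1 := key _ hx _ hy
    rw [hβS _ hx _ hy] at h1
    rw [comm_congr σ hZ (hs (σ (x : Γ))).symm (hs (σ (y : Γ))).symm]
    exact h1
  have haL : a ∈ L := by
    rw [hL, Subgroup.mem_comap, MonoidHom.mem_ker.mp ha]
    exact Subgroup.one_mem _
  have htr := pow_index_mem_commutator L a (hZ ha) hac haL
  have h1 := hbot htr
  rw [Subgroup.mem_bot] at h1
  have h2 : a ^ L.index = 1 := by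
    have := congrArg Subtype.val h1
    simpa using this
  have hidx : ¬ 2 ∣ L.index := by
    rw [hL, Subgroup.index_comap_of_surjective _ hσ]
    exact Sylow.not_dvd_index S
  have hd1 : orderOf a ∣ L.index := orderOf_dvd_of_pow_eq_one h2
  have hd2 : orderOf a ∣ 2 := orderOf_dvd_of_pow_eq_one h2a
  rcases (Nat.dvd_prime Nat.prime_two).1 hd2 with h | h
  · exact orderOf_eq_one_iff.1 h
  · rw [h] at hd1
    exact absurd hd1 hidx

/-- a finite stem extension of `²G₂(q)` is an isomorphism -/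
theorem ker_eq_bot [Finite Γ] (hK : Fintype.card K = 3 ^ (2 * m + 1)) (hm : 1 ≤ m)
    (hσ : Function.Surjective σ) (hZ : σ.ker ≤ Subgroup.center Γ)
    (hC : σ.ker ≤ commutator Γ) : σ.ker = ⊥ := by
  classical
  obtain ⟨C⟩ := exists_reeCtx (K := K) (m := m) hK
  have hch := C.char3
  obtain ⟨Φ⟩ := nonempty_invHom (K := K) (m := m)
  have hfin : Finite ↥(twistedG2 K (3 ^ m)) := Subtype.finite
  by_contra hne
  have hcard : Nat.card σ.ker ≠ 1 := fun h => hne ((Subgroup.card_eq_one).mp h)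
  set r := (Nat.card σ.ker).minFac with hr
  have hrp : Fact r.Prime := ⟨Nat.minFac_prime hcard⟩
  obtain ⟨x, hx⟩ := exists_prime_orderOf_dvd_card' (G := σ.ker) r (Nat.minFac_dvd _)
  have hxr : (x : Γ) ^ r = 1 := by
    have := pow_orderOf_eq_one x
    rw [hx] at this
    exact_mod_cast congrArg Subtype.val this
  have hx1 : (x : Γ) ≠ 1 := by
    intro h
    have : x = 1 := Subtype.ext h
    rw [this, orderOf_one] at hx
    exact hrp.out.one_lt.ne hx
  apply hx1
  by_cases h2 : r = 2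
  · rw [h2] at hxr
    exact two_part C hK hm Φ σ hZ (Function.surjInv hσ) (Function.surjInv_eq hσ) x x.2 (hC x.2) hxr
  by_cases h3 : r = 3
  · rw [h3] at hxr
    exact three_part C hK hm σ hZ (Function.surjInv hσ) (Function.surjInv_eq hσ) x x.2 (hC x.2) hxr
  · have h5 : 3 < r := by
      have := hrp.out.two_le
      omega
    let R : Sylow r ↥(twistedG2 K (3 ^ m)) := Classical.arbitrary _
    exact cyclic_sylow_part σ hσ hZ r R (isCyclic_sylow_ree hK hm h5 R) x x.2 (hC x.2) hxr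

/-- the Schur multiplier of `²G₂(q)`, `q ≥ 27`, is trivial -/
theorem main (hm : 1 ≤ m) (hK : Fintype.card K = 3 ^ (2 * m + 1)) :
    Cfsg.HasCyclicSchurMultiplier ↥(twistedG2 K (3 ^ m)) 1 := by
  have hfin : Finite ↥(twistedG2 K (3 ^ m)) := Subtype.finite
  apply Cfsg.Agent.Helper20.hasCyclicSchurMultiplier_one_of_forall_ker
  intro Γ _ _ σ hσ
  exact ker_eq_bot σ hK hm hσ.1 hσ.2.1 hσ.2.2

end Cfsg.Agent.Helper6.ReeMult
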